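import Groth.Prelude.Def_EtAcyc
import Groth.Agent.L27.EtSite.Points
import Mathlib.AlgebraicGeometry.Sites.EtalePoint
import Mathlib.CategoryTheory.Sites.Sheaf
import Mathlib.FieldTheory.IsSepClosed
import Mathlib.AlgebraicGeometry.ResidueField
import Mathlib.AlgebraicGeometry.Morphisms.UniversallyOpen
import Mathlib.AlgebraicGeometry.Sites.Etale
import Mathlib.Algebra.Category.Grp.FilteredColimits

/-!
`L`-torsion abelian sheaves on small étale sites.
-/

set_option autoImplicit false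
universe u

open CategoryTheory AlgebraicGeometry Opposite

namespace Groth.L28.EtTor

variable {X : Scheme.{u}} {L : Set ℕ} {F : EtCoh.Ab X}

/-- sections which agree on a covering sieve are equal -/
lemma sect_ext {U : X.Etale} {R : Sieve U} (hR : R ∈ X.smallEtaleTopology U) {s t : EtCoh.sect F U}
    (h : ∀ ⦃V : X.Etale⦄ (g : V ⟶ U), R g → F.obj.map g.op s = F.obj.map g.op t) : s = t :=
  (((isSheaf_iff_isSheaf_of_type _ _).1
    (((sheafCompose X.smallEtaleTopology (forget AddCommGrpCat.{u + 1})).obj F).property)) R hR).isSeparatedFor.ext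
    fun V g hg => h g hg

lemma primesIn_mul {m n : ℕ} (hm : EtAcyc.PrimesIn L m) (hn : EtAcyc.PrimesIn L n) :
    EtAcyc.PrimesIn L (m * n) :=
  ⟨Nat.mul_pos hm.1 hn.1, fun p hp h => ((Nat.Prime.dvd_mul hp).1 h).elim (hm.2 p hp) (hn.2 p hp)⟩

lemma primesIn_prod {ι : Type*} (s : Finset ι) (m : ι → ℕ) (h : ∀ i ∈ s, EtAcyc.PrimesIn L (m i)) :
    EtAcyc.PrimesIn L (∏ i ∈ s, m i) :=
  Finset.prod_induction m (EtAcyc.PrimesIn L) (fun _ _ => primesIn_mul)
    ⟨Nat.one_pos, fun p hp h1 => absurd (Nat.dvd_one.1 h1) hp.ne_one⟩ h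

set_option backward.isDefEq.respectTransparency.types false in
theorem exists_smul_eq_zero (hF : EtAcyc.IsLTorsion L F) (U : X.Etale) [CompactSpace U.left]
    (s : EtCoh.sect F U) : ∃ m : ℕ, EtAcyc.PrimesIn L m ∧ m • s = 0 := by
  classical
  choose V g m hv hm hs using hF U s
  haveI : ∀ x, Etale (g x).left := fun x => inferInstance
  obtain ⟨T, hT⟩ := isCompact_univ.elim_finite_subcover (fun x => Set.range (g x).left)
    (fun x => (g x).left.isOpenMap.isOpen_range)
    (fun x _ => Set.mem_iUnion.2 ⟨x, (hv x).choose, (hv x).choose_spec⟩)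
  refine ⟨∏ x ∈ T, m x, primesIn_prod T m fun x _ => hm x, ?_⟩
  refine sect_ext (R := Sieve.ofArrows _ fun x : T => g x.1) ?_ ?_
  · rw [Scheme.ofArrows_mem_smallEtaleTopology_iff]
    refine Set.eq_univ_of_forall fun y => ?_
    obtain ⟨x, hx, hy⟩ := Set.mem_iUnion₂.1 (hT (Set.mem_univ y))
    exact Set.mem_iUnion.2 ⟨⟨x, hx⟩, hy⟩
  · rintro W k ⟨_, h, _, ⟨⟨x, hx⟩⟩, rfl⟩
    rw [op_comp, Functor.map_comp, CategoryTheory.comp_apply, CategoryTheory.comp_apply, map_zero, map_zero]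
    obtain ⟨c, hc⟩ := Finset.dvd_prod_of_mem m hx
    rw [map_nsmul, hc, mul_comm, mul_nsmul', hs x, nsmul_zero, map_zero]

set_option backward.isDefEq.respectTransparency.types false in
theorem isLTorsion_iff_stalks : EtAcyc.IsLTorsion L F ↔
    ∀ (Ω : Type u) [Field Ω] [IsSepClosed Ω] (ξ : Spec (CommRingCat.of Ω) ⟶ X)
      (t : (EtCoh.stalk ξ).obj F), ∃ m : ℕ, EtAcyc.PrimesIn L m ∧ m • t = 0 := by
  classical
  refine ⟨fun hF Ω _ _ ξ t => ?_, fun h U s x => ?_⟩
  · obtain ⟨U, u, s, rfl⟩ := (Scheme.pointSmallEtale ξ).toPresheafFiber_jointly_surjective (P := F.obj) t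
    choose V g m hv hm hs using hF U s
    have hR : Sieve.ofArrows _ g ∈ X.smallEtaleTopology U := by
      rw [Scheme.ofArrows_mem_smallEtaleTopology_iff]
      exact Set.eq_univ_of_forall fun y => Set.mem_iUnion.2 ⟨y, hv y⟩
    obtain ⟨W, k, ⟨_, a, _, ⟨x⟩, rfl⟩, w, rfl⟩ := (Scheme.pointSmallEtale ξ).jointly_surjective _ hR u
    refine ⟨m x, hm x, ?_⟩
    let Φ := Scheme.pointSmallEtale ξ
    have e := Φ.toPresheafFiber_w_apply (g x) (Φ.fiber.map a w) F.obj s
    rw [Functor.map_comp, CategoryTheory.comp_apply]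
    rw [← e]
    exact ((map_nsmul (Φ.toPresheafFiber (V x) (Φ.fiber.map a w) F.obj).hom (m x) _).symm.trans
      (congrArg _ (hs x))).trans (map_zero _)
  · obtain ⟨Ω, _, _, ξ, hξ⟩ := Groth.L27.EtSite.exists_geometric_point (U.hom x)
    obtain ⟨u, hu⟩ := Scheme.pointSmallEtaleFiberObjToPreimage_surjective ξ hξ U ⟨x, rfl⟩
    obtain ⟨m, hm, hms⟩ := h Ω ξ ((Scheme.pointSmallEtale ξ).toPresheafFiber U u F.obj s)
    let τ := ((Scheme.pointSmallEtale ξ).toPresheafFiber U u F.obj).hom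
    have hms' : τ (m • s) = τ 0 := (map_nsmul τ m s).trans (hms.trans (map_zero τ).symm)
    obtain ⟨V, g, v, hv, hvs⟩ :=
      ((Scheme.pointSmallEtale ξ).toPresheafFiber_eq_iff' (P := F.obj) U u (m • s) 0).1 hms'
    refine ⟨V, g, m, ⟨v.left (default : Spec (CommRingCat.of Ω)), ?_⟩, hm, ?_⟩
    · rw [← hv] at hu
      exact congrArg Subtype.val hu
    · exact (map_nsmul (F.obj.map g.op).hom m s).symm.trans (hvs.trans (map_zero _))

end Groth.L28.EtTor
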